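import Cfsg.Agent.H42.SylIn
import Cfsg.Agent.HOLT.CE1
import Cfsg.Agent.S0215
import Cfsg.Agent.S2119

/-! General lemmas for the first component of the centraliser. -/

set_option autoImplicit false

namespace Cfsg.Agent.L4W.ZC0

open Subgroup
open Cfsg.Agent.H42 (SylIn cj)
open scoped commutatorElement

variable {G : Type*} [Group G]

theorem isP {x : G} {n : ℕ} (h : x ^ 2 ^ n = 1) : IsPGroup 2 (zpowers x) := by
  rintro ⟨_, k, rfl⟩
  refine ⟨n, Subtype.ext ?_⟩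
  change (x ^ k) ^ 2 ^ n = 1
  rw [← zpow_natCast, ← zpow_mul, mul_comm, zpow_mul, zpow_natCast, h, one_zpow]

theorem isP_sup {H K : Subgroup G} (hH : IsPGroup 2 H) (hK : IsPGroup 2 K)
    (h : H ≤ normalizer (K : Set G)) : IsPGroup 2 (H ⊔ K : Subgroup G) :=
  hH.to_sup_of_normal_right' hK h

variable [Finite G]

/-- a `2`-element normalising a Sylow `2`-subgroup lies in it -/
theorem mem_of_norm {Q X : Subgroup G} (h : SylIn 2 Q X) {x : G} (hx : x ∈ X) {n : ℕ}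
    (h2 : x ^ 2 ^ n = 1) (hn : ∀ y ∈ Q, x * y * x⁻¹ ∈ Q) : x ∈ Q := by
  have := Fact.mk Nat.prime_two
  have e := h.eq_of_le (isP_sup (isP h2) h.isP (zpowers_le.2 (H42.mem_normalizer_of_conj_mem hn)))
    (sup_le (zpowers_le.2 hx) h.le) le_sup_right
  exact e.le (mem_sup_left (mem_zpowers x))

omit [Finite G] in
/-- An element centralising a Sylow subgroup whose commutators lie in `⟨z⟩`. -/
theorem cent_of_syl {Q N : Subgroup G} (h : SylIn 2 Q N) {c z : G} (zc : ∀ g, g * z = z * g)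
    (z2 : z * z = 1) (hQ : ∀ y ∈ Q, y * c = c * y)
    (hN : ∀ y ∈ N, y * c * y⁻¹ * c⁻¹ = 1 ∨ y * c * y⁻¹ * c⁻¹ = z) : ∀ y ∈ N, y * c = c * y := by
  have cen : ∀ y ∈ N, ∀ g, g * (y * c * y⁻¹ * c⁻¹) = y * c * y⁻¹ * c⁻¹ * g := fun y hy g => by
    rcases hN y hy with e | e <;> rw [e]
    exacts [by simp, zc g]
  let φ : N →* G := MonoidHom.mk' (fun y => (y : G) * c * (y : G)⁻¹ * c⁻¹) fun a b => by
    have := cen b b.2 a
    calc ((a * b : N) : G) * c * ((a * b : N) : G)⁻¹ * c⁻¹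
        = (a : G) * ((b : G) * c * (b : G)⁻¹ * c⁻¹) * (c * (a : G)⁻¹ * c⁻¹) := by
          simp only [coe_mul]; group
      _ = (b : G) * c * (b : G)⁻¹ * c⁻¹ * ((a : G) * c * (a : G)⁻¹ * c⁻¹) := by rw [this]; group
      _ = _ := (cen b b.2 _).symm
  have h1 : φ.ker.index ∣ Q.relIndex N := index_dvd_of_le fun y hy => by
    rw [MonoidHom.mem_ker]
    change (y : G) * c * (y : G)⁻¹ * c⁻¹ = 1
    rw [hQ y hy]; group
  have h2 : φ.ker.index ∣ 2 := by
    rw [index_ker]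
    refine (card_dvd_of_le (K := zpowers z) ?_).trans ?_
    · rintro _ ⟨y, rfl⟩
      rcases hN y y.2 with e | e
      · exact (show φ y = 1 from e) ▸ one_mem _
      · exact (show φ y = z from e) ▸ mem_zpowers _
    · rw [Nat.card_zpowers]
      exact orderOf_dvd_of_pow_eq_one (by rw [pow_two, z2])
  rcases (Nat.dvd_prime Nat.prime_two).1 h2 with e | e
  · intro y hy
    have : φ ⟨y, hy⟩ = 1 := (index_eq_one.1 e).ge (mem_top _)
    have : y * c * y⁻¹ * c⁻¹ = 1 := this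
    rw [mul_inv_eq_one, mul_inv_eq_iff_eq_mul] at this
    exact this
  · exact (h.ndvd (e ▸ h1)).elim

theorem zs_cent {X Q : Subgroup G} {k z : G} (zc : ∀ g, g * z = z * g) (z2 : z * z = 1)
    (zX : z ∈ X) (syl : SylIn 2 Q X) (hk : ∀ x ∈ X, k * x * k⁻¹ ∈ X)
    (kQ : ∀ x ∈ Q, k * x = x * k) (k2 : ∀ x ∈ X, k * k * x = x * (k * k)) {j : ℕ}
    (kj : k ^ 2 ^ j = 1) (uq : ∀ x ∈ X, x * x = 1 → x = 1 ∨ x = z) (hp : ⁅X, X⁆ = X)
    (hs : ∀ K ≤ X, (∀ x ∈ X, ∀ y ∈ K, x * y * x⁻¹ ∈ K) → K ≤ zpowers z ∨ K = X)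
    {a b : G} (ha : a ∈ Q) (hb : b ∈ X) (ab : a * b ≠ b * a) : ∀ x ∈ X, k * x = x * k := by
  have := Fact.mk Nat.prime_two
  set Y : Subgroup G := zpowers k ⊔ X with hY
  set Z : Subgroup G := zpowers (k * k) ⊔ zpowers z with hZ
  have kY : k ∈ Y := mem_sup_left (mem_zpowers k)
  have XY : X ≤ Y := le_sup_right
  have cZ : ∀ c ∈ Z, ∀ y ∈ Y, y * c = c * y := by
    have : Z ≤ centralizer (Y : Set G) := by
      refine sup_le (zpowers_le.2 ?_) (zpowers_le.2 fun y _ => zc y)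
      have : Y ≤ centralizer {k * k} := sup_le
        (zpowers_le.2 (mem_centralizer_singleton_iff.2 (mul_assoc k k k).symm))
        fun x hx => mem_centralizer_singleton_iff.2 (k2 x hx).symm
      exact fun y hy => mem_centralizer_singleton_iff.1 (this hy)
    exact fun c hc y hy => this hc y hy
  have pZ : IsPGroup 2 Z := isP_sup (isP (n := j) (by rw [← pow_two, ← pow_mul, mul_comm, pow_mul, kj, one_pow]))
    (isP (n := 1) (by rw [pow_one, pow_two, z2]))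
    fun g _ => H42.mem_normalizer_of_conj_mem (by
      rintro _ ⟨i, rfl⟩
      rw [(Commute.zpow_right (zc g) i).eq, mul_inv_cancel_right]
      exact zpow_mem (mem_zpowers z) i)
  have nZ : (Z.subgroupOf Y).Normal := ⟨fun c hc y => by
    rw [mem_subgroupOf] at hc ⊢
    rw [coe_mul, coe_mul, cZ _ hc _ y.2, coe_inv, mul_inv_cancel_right]
    exact hc⟩
  set π := QuotientGroup.mk' (Z.subgroupOf Y) with hπ
  have kπ : ∀ y : Y, π y = 1 ↔ (y : G) ∈ Z := fun y => QuotientGroup.eq_one_iff y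
  by_cases k1 : π ⟨k, kY⟩ = 1
  · exact fun x hx => (cZ k ((kπ _).1 k1) x (XY hx)).symm
  have ko : orderOf (π ⟨k, kY⟩) = 2 := orderOf_eq_prime (by
    rw [pow_two, ← map_mul, kπ]; exact mem_sup_left (mem_zpowers _)) k1
  have pD : IsPGroup 2 (zpowers k ⊔ Q : Subgroup G) := isP_sup (isP kj) syl.isP
    (zpowers_le.2 (H42.mem_normalizer_of_conj_mem fun y hy => by rwa [kQ y hy, mul_inv_cancel_right]))
  obtain ⟨P, hP⟩ := ((pD.comap_subtype (K := Y)).map π).exists_le_sylow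
  have pP : IsPGroup 2 (((P : Subgroup _).comap π).map Y.subtype) :=
    (P.2.comap_of_ker_isPGroup π (by
      rw [hπ, QuotientGroup.ker_mk']; exact pZ.comap_subtype)).map _
  have eP : ((P : Subgroup _).comap π).map Y.subtype ⊓ X = Q :=
    syl.eq_of_le pP.to_inf_left inf_le_right fun y hy =>
      ⟨⟨⟨y, XY (syl.le hy)⟩, hP (mem_map_of_mem _ (mem_sup_right (S := zpowers k) hy)), rfl⟩, syl.le hy⟩
  have kP : π ⟨k, kY⟩ ∈ P := hP (mem_map_of_mem _ (mem_sup_left (T := Q) (mem_zpowers k)))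
  obtain ⟨N, nN, oN, hN⟩ := S0215.result P _ ko kP (by
    intro g hg
    obtain ⟨g, rfl⟩ := QuotientGroup.mk'_surjective _ g
    obtain ⟨x, hx, e⟩ : ∃ x ∈ X, (g : G) * k * (g : G)⁻¹ = x * k * x⁻¹ := by
      obtain ⟨_, ⟨i, rfl⟩, x, hx, e⟩ := H42.exists_mul_of_mem_sup
        (zpowers_le.2 (H42.mem_normalizer_of_conj_mem hk)) (inv_mem g.2)
      refine ⟨x⁻¹, inv_mem hx, ?_⟩
      rw [inv_eq_iff_eq_inv.1 e]
      simp only
      group
    have t1 : x * k * x⁻¹ * k⁻¹ ∈ Q := by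
      rw [← eP]
      refine ⟨⟨g * ⟨k, kY⟩ * g⁻¹ * ⟨k, kY⟩⁻¹, ?_, ?_⟩, ?_⟩
      · change π _ ∈ (P : Subgroup _)
        rw [map_mul, map_mul, map_mul, map_inv, map_inv]
        exact mul_mem hg (inv_mem kP)
      · rw [← e]; rfl
      · have := mul_mem hx (hk _ (inv_mem hx))
        rwa [← mul_assoc, ← mul_assoc] at this
    set t := x * k * x⁻¹ * k⁻¹ with ht
    have t2 : t * t = 1 := by
      have e1 : x * k * x⁻¹ = t * k := by rw [ht]; group
      have e2 : x * k * x⁻¹ * (x * k * x⁻¹) = k * k := by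
        calc _ = x * (k * k) * x⁻¹ := by group
          _ = k * k := by rw [← k2 x hx]; group
      rw [e1] at e2
      have e3 : t * k * (t * k) = t * t * (k * k) := by
        calc _ = t * (k * t) * k := by group
          _ = _ := by rw [kQ t t1]; simp only [mul_assoc]
      exact mul_eq_right.1 (e3.symm.trans e2)
    have t3 : t ∈ Z := by
      rcases uq t (syl.le t1) t2 with e | e <;> rw [e]
      exacts [one_mem _, mem_sup_right (mem_zpowers _)]
    rw [← mul_inv_eq_one]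
    change π g * π _ * (π g)⁻¹ * (π _)⁻¹ = 1
    rw [← map_inv, ← map_inv, ← map_mul, ← map_mul, ← map_mul, kπ]
    change (g : G) * k * (g : G)⁻¹ * k⁻¹ ∈ Z
    rwa [e])
  rcases hs ((N.comap π).map Y.subtype ⊓ X) inf_le_right (by
    rintro x hx _ ⟨⟨y, hy, rfl⟩, hy'⟩
    exact ⟨⟨⟨x, XY hx⟩ * y * ⟨x, XY hx⟩⁻¹, (nN.comap π).conj_mem y hy _, rfl⟩,
      X.mul_mem (X.mul_mem hx hy') (X.inv_mem hx)⟩) with e | e
  · refine HOLT.CEx.comm_of_perfect hp (zpowers_le.2 zX) (by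
      rintro _ ⟨i, rfl⟩ l -
      exact ((Commute.zpow_right (zc l) i)).symm) fun l hl => e ⟨⟨⟨k, kY⟩ * ⟨l, XY hl⟩ * ⟨k, kY⟩⁻¹ * ⟨l, XY hl⟩⁻¹, ?_, rfl⟩,
        X.mul_mem (hk l hl) (X.inv_mem hl)⟩
    change π _ ∈ N
    rw [map_mul, map_mul, map_mul, map_inv, map_inv]
    exact hN _
  · obtain ⟨⟨y, hy, rfl⟩, -⟩ := e.ge (syl.le ha)
    obtain ⟨n, hn⟩ := syl.isP ⟨_, ha⟩
    have h1 : orderOf (π y) ∣ 2 ^ n := orderOf_dvd_of_pow_eq_one (by
      have hn' : (y : G) ^ 2 ^ n = 1 := congrArg Subtype.val hn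
      rw [← map_pow, show y ^ 2 ^ n = 1 from Subtype.ext hn', map_one])
    have h2 : orderOf (π y) ∣ Nat.card N := N.orderOf_dvd_natCard hy
    have h3 : orderOf (π y) = 1 := Nat.eq_one_of_dvd_coprimes
      (Nat.Coprime.pow_left n (Nat.coprime_two_left.2 oN)) h1 h2
    exact (ab (cZ _ ((kπ y).1 (orderOf_eq_one_iff.1 h3)) b (XY hb)).symm).elim

omit [Finite G] in
theorem act {X : Subgroup G} {z c : G} {L0 : Type*} [Group L0] {ξ : X →* L0} (hs : Function.Surjective ξ)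
    (hk : ∀ x : X, ξ x = 1 ↔ (x : G) = 1 ∨ (x : G) = z) (zc : ∀ g, g * z = z * g)
    (h1 : ∀ x ∈ X, c * x * c⁻¹ ∈ X) (h2 : ∀ x ∈ X, c⁻¹ * x * c⁻¹⁻¹ ∈ X) :
    ∃ α : MulAut L0, ∀ (n : ℕ) (x y : X), (y : G) = c ^ n * x * (c ^ n)⁻¹ → (α ^ n) (ξ x) = ξ y := by
  have k : ∀ c (hc : ∀ x ∈ X, c * x * c⁻¹ ∈ X), ∃ φ : L0 →* L0,
      ∀ x : X, φ (ξ x) = ξ ⟨c * x * c⁻¹, hc x x.2⟩ := fun c hc => by
    let α : X →* X := MonoidHom.mk' (fun x => ⟨c * x * c⁻¹, hc x x.2⟩) fun x y => Subtype.ext (by simp)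
    refine ⟨ξ.liftOfSurjective hs ⟨ξ.comp α, fun x hx => (hk _).2 ?_⟩,
      fun x => ξ.liftOfRightInverse_comp_apply _ _ _ x⟩
    rcases (hk x).1 hx with e | e
    · exact .inl (by simp [α, e])
    · exact .inr (by simp [α, e, zc c])
  obtain ⟨φ, hφ⟩ := k c h1
  obtain ⟨ψ, hψ⟩ := k c⁻¹ h2
  have e1 : ψ.comp φ = MonoidHom.id _ := MonoidHom.ext fun l => by
    obtain ⟨x, rfl⟩ := hs l
    rw [MonoidHom.comp_apply, hφ, hψ]
    exact congrArg ξ (Subtype.ext (by simp [mul_assoc]))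
  have e2 : φ.comp ψ = MonoidHom.id _ := MonoidHom.ext fun l => by
    obtain ⟨x, rfl⟩ := hs l
    rw [MonoidHom.comp_apply, hψ, hφ]
    exact congrArg ξ (Subtype.ext (by simp [mul_assoc]))
  refine ⟨φ.toMulEquiv ψ e1 e2, fun n => ?_⟩
  induction n with
  | zero => exact fun x y e => congrArg ξ (Subtype.ext (by simpa using e.symm))
  | succ n ih =>
    intro x y e
    rw [pow_succ, MulAut.mul_apply]
    exact (congrArg _ (hφ x)).trans (ih _ y (by rw [e, pow_succ]; simp [mul_assoc]))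

theorem deg {n k : ℕ} {σ : Equiv.Perm (Fin n)} (h1 : σ ^ 2 ^ (k + 1) = 1) (h2 : σ ^ 2 ^ k ≠ 1) :
    2 ^ (k + 1) ≤ n := by
  obtain ⟨x, hx⟩ : ∃ x, σ ^ 2 ^ k • x ≠ x := not_forall.1 fun c => h2 (Equiv.ext c)
  rw [← Nat.eq_prime_pow_of_dvd_least_prime_pow Nat.prime_two (mt MulAction.pow_smul_eq_iff_period_dvd.2 hx)
    (MulAction.pow_smul_eq_iff_period_dvd.1 (by rw [h1, one_smul])), MulAction.period_eq_minimalPeriod]
  exact Function.minimalPeriod_le_card.trans (Fintype.card_fin n).le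

theorem four7 {σ : Equiv.Perm (Fin 7)} {k : ℕ} (h : σ ^ 2 ^ k = 1) : σ ^ 4 = 1 := by
  have key : ∀ j, σ ^ 2 ^ (j + 2) = 1 → σ ^ 4 = 1 := by
    intro j
    induction j with
    | zero => exact id
    | succ j ih =>
      intro h
      refine ih (not_not.1 fun n => ?_)
      have h1 := deg (k := j + 2) h n
      have : 2 ^ 3 ≤ 2 ^ (j + 2 + 1) := Nat.pow_le_pow_right (by norm_num) (by omega)
      omega
  exact key k (by rw [pow_add, pow_mul, h, one_pow])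

theorem aut7 {α : MulAut (alternatingGroup (Fin 7))} {k : ℕ} (h : α ^ 2 ^ k = 1) : α ^ 4 = 1 := by
  have hb := S2119.result 7 (by omega) (by omega)
  obtain ⟨σ, rfl⟩ := hb.2 α
  rw [← map_pow, four7 (k := k) (hb.1 (by rw [map_pow, h, map_one])), map_one]

theorem cen7 {a : alternatingGroup (Fin 7)} (h : ∀ l, a * l = l * a) : a = 1 := by
  have hb := S2119.result 7 (by omega) (by omega)
  refine Subtype.ext (hb.1 ?_)
  rw [OneMemClass.coe_one, map_one]
  ext1 l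
  refine Subtype.ext ?_
  rw [MulAut.conjNormal_apply, mul_inv_eq_iff_eq_mul]
  exact congrArg Subtype.val (h l)

theorem card7 {X : Type*} [Group X] [Finite X] {ξ : X →* alternatingGroup (Fin 7)}
    (hs : Function.Surjective ξ) {z : X} (hz : ξ z = 1) (z1 : z ≠ 1) (z2 : z * z = 1) : 16 ∣ Nat.card X := by
  have := Fact.mk Nat.prime_two
  have h1 : 2 ∣ Nat.card ξ.ker := by
    rw [← orderOf_eq_prime (p := 2) (by rw [pow_two, z2]) z1]
    exact ξ.ker.orderOf_dvd_natCard hz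
  have h2 : ξ.ker.index = 2520 := by
    have := two_mul_nat_card_alternatingGroup (α := Fin 7)
    rw [Nat.card_perm, Nat.card_eq_fintype_card (α := Fin 7), Fintype.card_fin] at this
    rw [index_ker, MonoidHom.range_eq_top.2 hs, card_top]
    norm_num [Nat.factorial] at this ⊢
    omega
  rw [← ξ.ker.card_mul_index, h2]
  exact Nat.mul_dvd_mul h1 (show 8 ∣ 2520 by norm_num)

end Cfsg.Agent.L4W.ZC0
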